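import Cfsg.Agent.HallJankoMult.Check
import Cfsg.Agent.IcoLeech.Reflections

/-!
`J₂` is the group of the tables: `twoJ2` permutes the 315 reflections by conjugation with the centre
as kernel.
-/

set_option autoImplicit false
set_option maxRecDepth 100000

noncomputable section

namespace CfsgLib.HallJankoMult

open Quaternion Cfsg.Spor Cfsg.IcoLeech Cfsg.IcoLeech.Data

theorem lines_nodup : lines.Nodup := lineKeys_nodup.of_map projKey

/-- The reflection with a given number, in `twoJ2`. -/
def refl (i : Fin 315) : twoJ2 := ⟨lineRefl ⟨lineAt i, lineAt_mem i.2⟩, reflPerm_mem _ _⟩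

theorem exists_refl {f : Equiv.Perm icoLeech} (hf : IsIcoReflection f) : ∃ i, (refl i).1 = f := by
  obtain ⟨⟨v, hv⟩, rfl⟩ := exists_lineRefl hf
  obtain ⟨i, hi, rfl⟩ := List.getElem_of_mem hv
  refine ⟨⟨i, lines_length ▸ hi⟩, congrArg lineRefl (Subtype.ext ?_)⟩
  show lineAt i = _
  rw [lineAt, List.getD_eq_getElem _ _ hi]

theorem refl_injective : Function.Injective refl := by
  intro i j e
  have h := congrArg Subtype.val (lineRefl_injective (congrArg Subtype.val e))
  change lineAt i = lineAt j at h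
  have hi : i.1 < lines.length := lines_length.symm ▸ i.2
  have hj : j.1 < lines.length := lines_length.symm ▸ j.2
  rw [lineAt, lineAt, List.getD_eq_getElem _ _ hi, List.getD_eq_getElem _ _ hj] at h
  exact Fin.ext (lines_nodup.getElem_inj_iff.1 h)

theorem refl_mul_self (i : Fin 315) : refl i * refl i = 1 :=
  Subtype.ext (Equiv.ext fun x => Subtype.ext (qrefl_involutive (line_mem (lineAt_mem i.2)).2 x))

theorem closure_refl : Subgroup.closure (Set.range refl) = ⊤ := by
  refine Subgroup.map_injective twoJ2.subtype_injective ?_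
  rw [MonoidHom.map_closure, ← MonoidHom.range_eq_map, Subgroup.range_subtype]
  unfold twoJ2
  congr 1
  ext f
  constructor
  · rintro ⟨_, ⟨i, rfl⟩, rfl⟩; exact isIco_reflPerm (lineVec ⟨lineAt i, lineAt_mem i.2⟩) (line_mem (lineAt_mem i.2)).2
  · intro hf; obtain ⟨i, hi⟩ := exists_refl hf; exact ⟨refl i, ⟨i, rfl⟩, hi⟩

theorem refl_conj_refl (m l : Fin 315) : ∃ n, refl m * refl l * refl m = refl n := by
  have hm := (line_mem (lineAt_mem m.2)).2
  have hl := (line_mem (lineAt_mem l.2)).2
  have hml : qrefl (toV (lineAt m)) (toV (lineAt l)) ∈ icoLeech :=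
    qrefl_mem (line_mem (lineAt_mem l.2)).1 (line_mem (lineAt_mem m.2)).1
  obtain ⟨n, hn⟩ := exists_refl (f := (refl m * refl l * refl m : twoJ2).1)
    ⟨⟨_, hml⟩, by
      show qip (qrefl _ _) (qrefl _ _) = 4
      rw [qip_qrefl_qrefl hm, hl], fun x => by
      funext t
      show qrefl (toV (lineAt m)) (qrefl (toV (lineAt l)) (qrefl (toV (lineAt m)) x)) t = _
      generalize hy : qrefl (toV (lineAt m)) (x : Fin 3 → ℍ[ℝ]) = y
      have hxy : (x : Fin 3 → ℍ[ℝ]) = qrefl (toV (lineAt m)) y := by rw [← hy, qrefl_involutive hm]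
      rw [hxy]
      show qrefl (toV (lineAt l)) y t -
          ((1 / 2 : ℝ) • qip (qrefl (toV (lineAt l)) y) (toV (lineAt m))) * toV (lineAt m) t =
        qrefl (toV (lineAt m)) y t -
          ((1 / 2 : ℝ) • qip (qrefl (toV (lineAt m)) y) (qrefl (toV (lineAt m)) (toV (lineAt l)))) *
            qrefl (toV (lineAt m)) (toV (lineAt l)) t
      rw [qip_qrefl_qrefl hm, qip_qrefl_right]
      simp only [qrefl]
      simp only [smul_sub, sub_mul, mul_sub, smul_mul_assoc, mul_smul_comm, mul_assoc]
      abel⟩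
  exact ⟨n, (Subtype.ext hn).symm⟩

theorem exists_conj (g : twoJ2) : ∀ i, ∃ j, g * refl i * g⁻¹ = refl j := by
  have hg : g ∈ Subgroup.closure (Set.range refl) := closure_refl ▸ Subgroup.mem_top g
  induction hg using Subgroup.closure_induction'' with
  | mem x hx =>
    obtain ⟨m, rfl⟩ := hx
    intro i
    rw [inv_eq_of_mul_eq_one_right (refl_mul_self m)]
    exact refl_conj_refl m i
  | inv_mem x hx =>
    obtain ⟨m, rfl⟩ := hx
    intro i
    rw [inv_inv, inv_eq_of_mul_eq_one_right (refl_mul_self m)]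
    exact refl_conj_refl m i
  | one => exact fun i => ⟨i, by group⟩
  | mul a b _ _ ha hb =>
    intro i
    obtain ⟨j, hj⟩ := hb i
    obtain ⟨k, hk⟩ := ha j
    exact ⟨k, by rw [← hk, ← hj]; group⟩

/-- The image of a number. -/
def imgFn (g : twoJ2) (i : Fin 315) : Fin 315 := (exists_conj g i).choose

theorem imgFn_spec (g : twoJ2) (i : Fin 315) : g * refl i * g⁻¹ = refl (imgFn g i) :=
  (exists_conj g i).choose_spec

/-- The action on the 315 lines. -/
def act : twoJ2 →* Equiv.Perm (Fin 315) where
  toFun g :=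
    { toFun := imgFn g
      invFun := imgFn g⁻¹
      left_inv := fun i => refl_injective (by rw [← imgFn_spec, ← imgFn_spec]; group)
      right_inv := fun i => refl_injective (by rw [← imgFn_spec, ← imgFn_spec]; group) }
  map_one' := Equiv.ext fun i => refl_injective (by
    show refl (imgFn 1 i) = refl i
    rw [← imgFn_spec]; group)
  map_mul' a b := Equiv.ext fun i => refl_injective (by
    show refl (imgFn (a * b) i) = refl (imgFn a (imgFn b i))
    rw [← imgFn_spec, ← imgFn_spec, ← imgFn_spec]; group)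

theorem ker_act : act.ker = Subgroup.center twoJ2 := by
  ext g
  rw [MonoidHom.mem_ker, Subgroup.mem_center_iff]
  constructor
  · intro h x
    have hx : x ∈ Subgroup.closure (Set.range refl) := closure_refl ▸ Subgroup.mem_top x
    have key : ∀ i, Commute (refl i) g := by
      intro i
      have h1 := imgFn_spec g i
      rw [show imgFn g i = i from Equiv.congr_fun h i, mul_inv_eq_iff_eq_mul] at h1
      exact h1.symm
    induction hx using Subgroup.closure_induction with
    | mem x hx => obtain ⟨i, rfl⟩ := hx; exact key i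
    | one => rw [one_mul, mul_one]
    | mul a b _ _ ha hb => rw [mul_assoc, hb, ← mul_assoc, ha, mul_assoc]
    | inv a _ ha => exact (Commute.inv_left (show Commute a g from ha)).eq
  · intro h
    refine Equiv.ext fun i => refl_injective ?_
    show refl (imgFn g i) = refl i
    rw [← imgFn_spec, ← h (refl i), mul_inv_cancel_right]

/-- The tables of the four generators agree with the reflections. -/
def gensB : Bool :=
  (List.range 4).all fun a => Mathieu.allBelow 315 fun i =>
    decide (Data.gens.getD a 0 < 315) && Nat.blt (sys.app (sys.tab a) i) 315 &&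
      (code (ip (lineAt i) (lineAt (Data.gens.getD a 0))) == 0) &&
      decide (projKey (reflI (lineAt (Data.gens.getD a 0)) (lineAt i)) =
        projKey (lineAt (sys.app (sys.tab a) i)))

theorem gensB_eq : gensB = true := by decide +kernel

theorem act_gen {a : ℕ} (ha : a < 4) (h : Data.gens.getD a 0 < 315) :
    act (refl ⟨_, h⟩) = (sys.el a : Equiv.Perm (Fin 315)) := by
  have hT : a < sys.T.length := lt_of_lt_of_le ha (by decide +kernel)
  refine Equiv.ext fun i => refl_injective ?_
  show refl (imgFn _ i) = refl (sys.el a i)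
  rw [← imgFn_spec]
  have hb := List.all_eq_true.1 gensB_eq a (List.mem_range.2 ha)
  simp only [Mathieu.allBelow_iff, Bool.and_eq_true, decide_eq_true_eq, beq_iff_eq] at hb
  obtain ⟨⟨⟨-, -⟩, hc⟩, hk⟩ := hb i.1 i.2
  apply Subtype.ext
  show lineRefl _ * lineRefl _ * (lineRefl _)⁻¹ = _
  exact lineRefl_conj (n := ⟨_, lineAt_mem (sys.el a i).2⟩) hc
    (hk.trans (congrArg (fun j => projKey (lineAt j)) (CoverTab.Sys.el_apply sys_ok hT i).symm))

theorem gens_lt : ∀ a < 4, Data.gens.getD a 0 < 315 := by decide +kernel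

theorem closure_gens :
    Subgroup.closure {x : twoJ2 | ∃ (a : ℕ) (ha : a < 4), refl ⟨_, gens_lt a ha⟩ = x} = ⊤ := by
  set K := Subgroup.closure {x : twoJ2 | ∃ (a : ℕ) (ha : a < 4), refl ⟨_, gens_lt a ha⟩ = x}
  have hgen : ∀ a (ha : a < 4), refl ⟨_, gens_lt a ha⟩ ∈ K := fun a ha =>
    Subgroup.subset_closure ⟨a, ha, rfl⟩
  have hgl : Data.gens.length = 4 := by decide +kernel
  have hlen : tree.length = 314 := by decide +kernel
  have hidx : ∀ k < 314, (tree.getD k (0, 0, 0)).2.2 < 4 := by decide +kernel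
  have hroot : root = Data.gens.getD 0 0 := by decide +kernel
  have key : ∀ k, k < 315 → ∀ h : orderAt k < 315, refl ⟨_, h⟩ ∈ K := by
    intro k
    induction k using Nat.strong_induction_on with
    | _ k ih =>
      intro hk h'
      match k with
      | 0 =>
        have e : (⟨orderAt 0, h'⟩ : Fin 315) = ⟨_, gens_lt 0 (by norm_num)⟩ :=
          Fin.ext ((show orderAt 0 = root by simp [orderAt]).trans hroot)
        rw [e]; exact hgen 0 (by norm_num)
      | k + 1 =>
        have h := List.all_eq_true.1 treeB_eq k (List.mem_range.2 (by omega))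
        simp only [Bool.and_eq_true, decide_eq_true_eq, beq_iff_eq] at h
        obtain ⟨⟨⟨⟨⟨hp, hx⟩, hg⟩, hn⟩, hc⟩, hkey⟩ := h
        have hm := hgen _ (hidx k (by omega))
        have hmem := ih _ (Nat.lt_succ_of_le hp) (by omega) hx
        have e : refl ⟨_, h'⟩ = refl ⟨_, hg⟩ * refl ⟨_, hx⟩ * (refl ⟨_, hg⟩)⁻¹ :=
          Subtype.ext (lineRefl_conj (m := ⟨_, lineAt_mem hg⟩) (l := ⟨_, lineAt_mem hx⟩)
            (n := ⟨_, lineAt_mem h'⟩) hc hkey).symm
        rw [e]
        exact K.mul_mem (K.mul_mem hm hmem) (K.inv_mem hm)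
  refine top_le_iff.1 (closure_refl.ge.trans ((Subgroup.closure_le _).2 ?_))
  rintro _ ⟨i, rfl⟩
  obtain ⟨k, hk, hk'⟩ := List.getElem_of_mem (tree_cover i (List.mem_range.2 i.2))
  have hord : orderAt k = i := by rw [orderAt, List.getD_eq_getElem _ _ hk, hk']
  have hlen' : (root :: tree.map Prod.fst).length = 315 := by decide +kernel
  have := key k (hlen' ▸ hk) (hord.symm ▸ i.2)
  have e : (⟨orderAt k, hord.symm ▸ i.2⟩ : Fin 315) = i := Fin.ext hord
  rw [e] at this
  exact this

theorem el_four : (sys.el 4 : Equiv.Perm (Fin 315)) = 1 := by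
  refine Equiv.ext fun i => Fin.ext ?_
  show ((sys.el 4 i : Fin 315) : ℕ) = _
  rw [CoverTab.Sys.el_apply sys_ok (by decide +kernel)]
  exact (by decide +kernel : ∀ j < 315, sys.app (sys.tab 4) j = j) i.1 i.2

theorem range_act : act.range = sys.grp := by
  rw [MonoidHom.range_eq_map, ← closure_gens, MonoidHom.map_closure]
  unfold CoverTab.Sys.grp
  refine le_antisymm ((Subgroup.closure_le _).2 ?_) ((Subgroup.closure_le _).2 ?_)
  · rintro _ ⟨_, ⟨a, ha, rfl⟩, rfl⟩
    exact Subgroup.subset_closure ⟨a, ha.le, (act_gen ha (gens_lt a ha)).symm⟩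
  · rintro _ ⟨a, ha, rfl⟩
    change a ≤ 4 at ha
    rcases ha.lt_or_eq with h | rfl
    · exact Subgroup.subset_closure ⟨_, ⟨a, h, rfl⟩, act_gen h (gens_lt a h)⟩
    · rw [el_four]; exact one_mem _

/-- `J₂` is the group of the tables. -/
def equivGrp : J2 ≃* sys.grp :=
  ((QuotientGroup.quotientMulEquivOfEq ker_act.symm).trans
    (QuotientGroup.quotientKerEquivRange act)).trans (MulEquiv.subgroupCongr range_act)

end CfsgLib.HallJankoMult

end
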