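import Cfsg.Agent.HallJankoMult.Check

/-!
Stem extensions of the group on 315 lines have kernels of order at most 2.
-/

set_option autoImplicit false

namespace CfsgLib.HallJankoMult

open CfsgLib.Schur.Pc

/-- The kernel of a stem extension of the line group has at most two elements. -/
theorem card_ker_le (hord : Nat.card sys.grp = 604800) {Γ : Type*} [Group Γ] [Finite Γ]
    (σ : Γ →* sys.grp) (hσ : Cfsg.IsStemExtension σ) : Nat.card σ.ker ≤ 2 := by
  obtain ⟨W, hW, hW2, hWz⟩ := ker_pow_mem_zpowers sys_ok certTwo spanTwo 2 xiTwo gsTwo modTwo baseTwo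
    check_two Nat.prime_two (N := 4725) (by rw [hord]; rfl) σ hσ
  obtain ⟨U, -, hU, hUz⟩ := ker_pow_mem_zpowers sys_ok certThree spanThree 1 xiThree gsThree modThree
    baseThree check_three Nat.prime_three (N := 22400) (by rw [hord]; rfl) σ hσ
  obtain ⟨V, -, hV, hVz⟩ := ker_pow_mem_zpowers sys_ok certFive spanFive 1 xiFive gsFive modFive
    baseFive check_five Nat.prime_five (N := 24192) (by rw [hord]; rfl) σ hσ
  obtain ⟨T, -, hT, hTz⟩ := ker_pow_mem_zpowers sys_ok certSeven spanSeven 1 xiSeven gsSeven modSeven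
    baseSeven check_seven (show (7 : ℕ).Prime by norm_num) (N := 86400) (by rw [hord]; rfl) σ hσ
  rw [pow_one] at hU hV hT
  subst hU hV hT
  simp only [Subgroup.zpowers_one_eq_bot, Subgroup.mem_bot] at hUz hVz hTz
  have hall : ∀ z ∈ σ.ker, z ∈ Subgroup.zpowers W := by
    intro z hz
    have h1 := orderOf_dvd_of_pow_eq_one (hUz z hz)
    have h2 := orderOf_dvd_of_pow_eq_one (hVz z hz)
    have h3 := orderOf_dvd_of_pow_eq_one (hTz z hz)
    have h4 : orderOf z ∣ 128 := Nat.dvd_trans (Nat.dvd_gcd (Nat.dvd_gcd h1 h2) h3) (by norm_num)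
    have hcop : Nat.Coprime 4725 (orderOf z) :=
      Nat.Coprime.coprime_dvd_right h4 (by norm_num)
    obtain ⟨m, hm⟩ := exists_pow_eq_self_of_coprime hcop
    have := Subgroup.pow_mem _ (hWz z hz) m
    rwa [hm] at this
  have hle : σ.ker ≤ Subgroup.zpowers W := hall
  refine (Subgroup.card_le_of_le hle).trans ?_
  rw [Nat.card_zpowers]
  exact Nat.le_of_dvd two_pos (orderOf_dvd_of_pow_eq_one hW2)

end CfsgLib.HallJankoMult
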