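import Cfsg.Agent.MTwelveCover.Bound
import Cfsg.Agent.CoverTab.Mult

/-!
The bound on the `p`-part of a multiplier from tables of permutations of any degree.
-/

set_option autoImplicit false
set_option linter.style.haveILetI false

namespace CfsgLib.HallJankoMult

open CfsgLib.Schur.Pc (ev tailSubgroup normalWords)
open CfsgLib.CoverTab

/-- The checks. -/
noncomputable def spanCertOK (S : Sys) (C : Schur.Pc.Cert) (P : MTwelveCover.Span) (k : ℕ) (xi : List ℕ)
    (gs : List (List ℕ)) (md : ℕ) (base : List ℕ) : Bool :=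
  MTwelveCover.spanOK C P k && (List.range C.rules.length).all (fun j => S.ruleAt C xi j) &&
    Nat.beq gs.length C.fus.length &&
    (List.range C.fus.length).all (fun j => S.fusAt C xi gs j) && S.keysOK C xi md base

/-- The kernel, raised to a number prime to `p`, lies in a cyclic group killed by `k`. -/
theorem ker_pow_mem_zpowers {S : Sys} (hS : S.OK = true) {Γ : Type*} [Group Γ] [Finite Γ]
    (C : Schur.Pc.Cert) (P : MTwelveCover.Span) (k : ℕ) (xi : List ℕ) (gs : List (List ℕ))
    (md : ℕ) (base : List ℕ) (hok : spanCertOK S C P k xi gs md base = true) (hp : C.p.Prime) {N : ℕ}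
    (hN : Nat.card S.grp = C.p ^ C.n * N) (σ : Γ →* S.grp) (hσ : Cfsg.IsStemExtension σ) :
    ∃ W ∈ σ.ker, W ^ k = 1 ∧ ∀ z ∈ σ.ker, z ^ N ∈ Subgroup.zpowers W := by
  simp only [spanCertOK, Sys.keysOK, Bool.and_eq_true, List.all_eq_true, List.mem_range] at hok
  obtain ⟨⟨⟨⟨hspan, hrules⟩, hlen⟩, hfus⟩, ⟨⟨hbase, hlet⟩, hnodup⟩⟩ := hok
  let x : ℕ → S.grp := fun a => S.x hS (xi.getD a S.n)
  have hev : ∀ u, ev x u = ev (S.x hS) (u.map fun a => xi.getD a S.n) := fun u => by
    simp only [ev, List.map_map]; rfl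
  have hr : ∀ l ∈ C.rules, ev x l.1 = ev x l.2 := fun l hl => by
    obtain ⟨j, hj, rfl⟩ := List.getElem_of_mem hl
    have h := hrules j hj
    simp only [Sys.ruleAt, List.getD_eq_getElem _ _ hj] at h
    rw [hev, hev]; exact Sys.same_grp hS h
  have hf : ∀ F ∈ C.fus, ∃ g : S.grp, ∀ s < C.fusW,
      g * ev x (F.1.getD s []) * g⁻¹ = ev x (F.2.getD s []) := by
    intro F hF
    obtain ⟨i, hi, rfl⟩ := List.getElem_of_mem hF
    have hi' : i < gs.length := Nat.eq_of_beq_eq_true hlen ▸ hi
    refine ⟨ev (S.x hS) gs[i], fun s hs => ?_⟩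
    have h0 := hfus i hi
    simp only [Sys.fusAt, List.all_eq_true, List.mem_range, List.getD_eq_getElem _ _ hi,
      List.getD_eq_getElem _ _ hi'] at h0
    have h := Sys.same_grp hS (h0 s hs)
    rw [Schur.Pc.ev_append, Schur.Pc.ev_append] at h
    rw [hev, hev, mul_inv_eq_iff_eq_mul]
    exact h
  have hcard : C.p ^ C.n ≤ Nat.card (tailSubgroup x C.n 0) := by
    let kf : S.grp → ℕ := fun g => base.foldl
      (fun acc b => acc * S.N + if h : b < S.N then ((g.1 ⟨b, h⟩ : Fin S.N) : ℕ) else 0) 0 % md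
    refine Schur.Pc.le_card_of_nodup kf C.p C.n x ?_
    have hk : ∀ w ∈ normalWords C.p C.n 0,
        kf (ev x w) = S.key md base (w.map fun a => xi.getD a S.n) := by
      intro w hw
      have aux : ∀ (L : List ℕ), (∀ b ∈ L, Nat.blt b S.N = true) → ∀ acc,
          L.foldl (fun acc b => acc * S.N +
              if h : b < S.N then (((ev x w).1 ⟨b, h⟩ : Fin S.N) : ℕ) else 0) acc =
            L.foldl (fun acc b => acc * S.N +
              S.imgT (S.tabs (w.map fun a => xi.getD a S.n)) b) acc := by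
        intro L
        induction L with
        | nil => intro _ acc; rfl
        | cons b L ih =>
          intro hL acc
          have hb : b < S.N := Nat.le_of_ble_eq_true (hL b List.mem_cons_self)
          rw [List.foldl_cons, List.foldl_cons, ih (fun c hc => hL c (List.mem_cons_of_mem _ hc)),
            dif_pos hb, hev, Sys.coe_ev, Sys.ev_apply hS (hlet w hw)]
      simp only [kf, Sys.key, aux base hbase]
    rw [List.map_congr_left hk]
    exact nodupBits_sound _ _ hnodup
  obtain ⟨W, hW, hk, hz⟩ := MTwelveCover.ker_pow_mem_zpowers C P k σ hσ hspan x hr hf hcard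
  refine ⟨W, hW, hk, fun z hzk => ?_⟩
  have hshape : Schur.Pc.shaped C.p C.n C.rules = true := by
    simp only [MTwelveCover.spanOK, Bool.and_eq_true] at hspan
    exact hspan.1.1.1.1.1.1
  have hT : Nat.card (tailSubgroup x C.n 0) = C.p ^ C.n :=
    le_antisymm (Schur.Pc.card_tailSubgroup_le x hshape hr C.n 0 (Nat.zero_add _)) hcard
  have hidx := Subgroup.index_mul_card (tailSubgroup x C.n 0)
  rw [hT, hN, Nat.mul_comm] at hidx
  rw [← Nat.eq_of_mul_eq_mul_left (pow_pos hp.pos _) hidx]
  exact hz z hzk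

end CfsgLib.HallJankoMult
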