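import Cfsg.Agent.HallJankoMult.Data
import Cfsg.Agent.HallJankoMult.Span

/-!
The certificates on the 315 lines.
-/

set_option autoImplicit false
set_option maxRecDepth 100000

namespace CfsgLib.HallJankoMult

theorem sys_ok : sys.OK = true := by decide +kernel

theorem check_two : spanCertOK sys certTwo spanTwo 2 xiTwo gsTwo modTwo baseTwo = true := by decide +kernel

theorem check_three : spanCertOK sys certThree spanThree 1 xiThree gsThree modThree baseThree = true := by
  decide +kernel

theorem check_five : spanCertOK sys certFive spanFive 1 xiFive gsFive modFive baseFive = true := by
  decide +kernel

theorem check_seven : spanCertOK sys certSeven spanSeven 1 xiSeven gsSeven modSeven baseSeven = true := by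
  decide +kernel

end CfsgLib.HallJankoMult
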