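import Cfsg.Agent.HallJankoMult.NegData
import Cfsg.Agent.HallJankoMult.Action

/-!
The negation of the icosian Leech lattice is a commutator in `twoJ2`.
-/

set_option autoImplicit false
set_option maxRecDepth 100000

noncomputable section

namespace CfsgLib.HallJankoMult

open Quaternion Cfsg.Spor Cfsg.IcoLeech Cfsg.IcoLeech.Data
open scoped commutatorElement

/-- The reflection with number `i` modulo 315. -/
def reflN (i : ℕ) : twoJ2 := refl ⟨i % 315, Nat.mod_lt _ (by norm_num)⟩

/-- The value of a word. -/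
def wordVal (w : List ℕ) : twoJ2 := (w.map reflN).prod

theorem wordVal_append (u v : List ℕ) : wordVal (u ++ v) = wordVal u * wordVal v := by
  simp [wordVal]

theorem wordVal_reverse : ∀ w, wordVal w.reverse = (wordVal w)⁻¹
  | [] => by simp [wordVal]
  | a :: w => by
    rw [List.reverse_cons, wordVal_append, wordVal_reverse w]
    simp [wordVal, inv_eq_of_mul_eq_one_right (refl_mul_self _), reflN]

/-- The coordinates of a reflection are congruent modulo 2. -/
def traceOK : List ℕ → List V3 → V3 → Bool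
  | [], [], _ => true
  | a :: w, y :: ys, x =>
    let prev := ys.headD x
    code (ip prev (lineAt (a % 315))) == 0 && decide (reflI (lineAt (a % 315)) prev = y) &&
      traceOK w ys x
  | _, _, _ => false

theorem toV_wordVal : ∀ (w : List ℕ) (ys : List V3) (x : V3) (hx : toV x ∈ icoLeech),
    traceOK w ys x = true →
      ((wordVal w).1 ⟨toV x, hx⟩ : Fin 3 → ℍ[ℝ]) = toV (ys.headD x)
  | [], [], x, hx, _ => rfl
  | a :: w, y :: ys, x, hx, h => by
    simp only [traceOK, Bool.and_eq_true, beq_iff_eq, decide_eq_true_eq] at h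
    obtain ⟨⟨hc, hy⟩, hrest⟩ := h
    have ih := toV_wordVal w ys x hx hrest
    show qrefl (toV (lineAt (a % 315))) ((wordVal w).1 ⟨toV x, hx⟩ : Fin 3 → ℍ[ℝ]) = toV y
    rw [ih, ← toV_reflI hc, hy]
  | [], _ :: _, _, _, h => by simp [traceOK] at h
  | _ :: _, [], _, _, h => by simp [traceOK] at h

/-- The commutator word. -/
def commWord : List ℕ := wordA ++ wordB ++ wordA.reverse ++ wordB.reverse

/-- The checks on the three generators. -/
def negB : Bool :=
  (List.finRange 3).all fun i =>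
    let ys := traceNeg.getD i.1 []
    inL (basisV i) && traceOK commWord ys (basisV i) &&
      decide (ys.headD (basisV i) = (-(basisV i).1, -(basisV i).2.1, -(basisV i).2.2))

theorem negB_eq : negB = true := by decide +kernel

/-- A member of `twoJ2` commutes with the left scalars. -/
theorem coe_linear (g : twoJ2) : ∃ f : (Fin 3 → ℍ[ℝ]) → (Fin 3 → ℍ[ℝ]),
    (∀ x : icoLeech, ((g.1 x : icoLeech) : Fin 3 → ℍ[ℝ]) = f x) ∧
      ∀ (a : Fin 3 → ℍ[ℝ]) (v : Fin 3 → Fin 3 → ℍ[ℝ]),
        f (fun t => ∑ i, a i * v i t) = fun t => ∑ i, a i * f (v i) t := by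
  have hrefl : ∀ m : Fin 315, ∃ f : (Fin 3 → ℍ[ℝ]) → (Fin 3 → ℍ[ℝ]),
      (∀ x : icoLeech, (((refl m).1 x : icoLeech) : Fin 3 → ℍ[ℝ]) = f x) ∧
        ∀ (a : Fin 3 → ℍ[ℝ]) (v : Fin 3 → Fin 3 → ℍ[ℝ]),
          f (fun t => ∑ i, a i * v i t) = fun t => ∑ i, a i * f (v i) t := by
    intro m
    refine ⟨qrefl (toV (lineAt m)), fun x => rfl, fun a v => ?_⟩
    funext t
    have hq : qip (fun t => ∑ i, a i * v i t) (toV (lineAt m)) =
        ∑ i, a i * qip (v i) (toV (lineAt m)) := by
      simp only [qip, Finset.sum_mul, Finset.mul_sum, mul_assoc]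
      rw [Finset.sum_comm]
    simp only [qrefl, hq, Finset.smul_sum, Finset.sum_mul, mul_sub, Finset.sum_sub_distrib,
      mul_smul_comm, smul_mul_assoc, mul_assoc]
  have hg : g ∈ Subgroup.closure (Set.range refl) := closure_refl ▸ Subgroup.mem_top g
  induction hg using Subgroup.closure_induction'' with
  | mem x hx => obtain ⟨m, rfl⟩ := hx; exact hrefl m
  | inv_mem x hx =>
    obtain ⟨m, rfl⟩ := hx
    rw [inv_eq_of_mul_eq_one_right (refl_mul_self m)]
    exact hrefl m
  | one => exact ⟨id, fun _ => rfl, fun _ _ => rfl⟩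
  | mul a b _ _ ha hb =>
    obtain ⟨f, hf, hf'⟩ := ha
    obtain ⟨f₂, hf₂, hf₂'⟩ := hb
    refine ⟨f ∘ f₂, fun x => ?_, fun a' v => ?_⟩
    · show ((a.1 (b.1 x) : icoLeech) : Fin 3 → ℍ[ℝ]) = f (f₂ x)
      rw [hf, hf₂]
    · show f (f₂ _) = _
      rw [hf₂', hf']
      rfl

/-- The negation of the lattice is a commutator. -/
theorem exists_neg_commutator : ∃ z ∈ commutator twoJ2, ∀ x : icoLeech,
    ((z.1 x : icoLeech) : Fin 3 → ℍ[ℝ]) = -(x : Fin 3 → ℍ[ℝ]) := by
  refine ⟨⁅wordVal wordA, wordVal wordB⁆,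
    Subgroup.commutator_mem_commutator (Subgroup.mem_top _) (Subgroup.mem_top _), fun x => ?_⟩
  have he : ⁅wordVal wordA, wordVal wordB⁆ = wordVal commWord := by
    rw [commutatorElement_def, commWord, wordVal_append, wordVal_append, wordVal_append,
      wordVal_reverse, wordVal_reverse]
  rw [he]
  obtain ⟨f, hf, hlin⟩ := coe_linear (wordVal commWord)
  obtain ⟨a, -, ha⟩ := exists_coeffs x.2
  have hb : ∀ i, f (toV (basisV i)) = -toV (basisV i) := by
    intro i
    have h := List.all_eq_true.1 negB_eq i (List.mem_finRange i)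
    simp only [Bool.and_eq_true, decide_eq_true_eq] at h
    obtain ⟨⟨hin, htr⟩, hhd⟩ := h
    have hx := (toV_mem_iff _).2 hin
    rw [← hf ⟨_, hx⟩, toV_wordVal _ _ _ hx htr, hhd]
    funext t
    fin_cases t <;> simp [toV]
  rw [hf, ha, hlin]
  funext t
  simp [hb]

end CfsgLib.HallJankoMult

end
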