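import Cfsg.Agent.HallJankoMult.Bound
import Cfsg.Agent.HallJankoMult.NegComm
import Cfsg.Agent.JankoTwoThree.J2Center
import Cfsg.Agent.MultPSL.Main

/-!
The Schur multiplier of `J₂` has order 2.
-/

set_option autoImplicit false

noncomputable section

namespace CfsgLib.HallJankoMult

open Quaternion Cfsg.Spor Cfsg.IcoLeech

theorem card_grp : Nat.card sys.grp = 604800 :=
  (Nat.card_congr equivGrp.toEquiv).symm.trans CfsgLib.J2.card_J2

theorem center_le_commutator : Subgroup.center twoJ2 ≤ commutator twoJ2 := by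
  obtain ⟨z, hz, hneg⟩ := exists_neg_commutator
  obtain ⟨w, hw, hw1, hwneg⟩ := CfsgLib.J2.exists_negation
  have e : z = w := Subtype.ext (Equiv.ext fun x => Subtype.ext ((hneg x).trans (hwneg x).symm))
  subst e
  intro y hy
  obtain ⟨a, b, hab, hu⟩ := Nat.card_eq_two_iff.1 CfsgLib.J2.card_center
  have hall : ∀ c : Subgroup.center twoJ2, c = a ∨ c = b := fun c => by
    have := hu.ge (Set.mem_univ c)
    simpa using this
  rcases eq_or_ne y 1 with rfl | hy1
  · exact one_mem _
  have e2 : (⟨y, hy⟩ : Subgroup.center twoJ2) = ⟨z, hw⟩ := by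
    rcases hall ⟨y, hy⟩ with h | h <;> rcases hall ⟨z, hw⟩ with h' | h' <;>
      rcases hall 1 with h'' | h'' <;> first
        | exact h.trans h'.symm
        | exact absurd (congrArg Subtype.val (h.trans h''.symm)) hy1
        | exact absurd (congrArg Subtype.val (h'.trans h''.symm)) hw1
  rw [show y = z from congrArg Subtype.val e2]
  exact hz

theorem hasCyclicSchurMultiplier_J2 : Cfsg.HasCyclicSchurMultiplier Cfsg.Spor.J2 2 := by
  haveI : Finite twoJ2 := Nat.finite_of_card_ne_zero (by rw [CfsgLib.J2.card_twoJ2]; norm_num)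
  let τ : twoJ2 →* J2 := QuotientGroup.mk' (Subgroup.center twoJ2)
  have hker : τ.ker = Subgroup.center twoJ2 := QuotientGroup.ker_mk' _
  have hst : Cfsg.IsStemExtension τ :=
    ⟨QuotientGroup.mk'_surjective _, hker.le, hker.le.trans center_le_commutator⟩
  have hcard : Nat.card τ.ker = 2 := by rw [hker]; exact CfsgLib.J2.card_center
  haveI : Fact (Nat.Prime 2) := ⟨Nat.prime_two⟩
  haveI : IsCyclic τ.ker := isCyclic_of_prime_card hcard
  haveI : Finite J2 := Finite.of_surjective τ (QuotientGroup.mk'_surjective _)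
  refine MultPSL.hasCyclicSchurMultiplier_of_bound τ hst hcard ?_
  intro Δ _ _ σ hσ
  let ρ : Δ →* sys.grp := equivGrp.toMonoidHom.comp σ
  have hρk : ρ.ker = σ.ker := by
    ext x
    simp [ρ, MonoidHom.mem_ker]
  have hρ : Cfsg.IsStemExtension ρ :=
    ⟨equivGrp.surjective.comp hσ.1, hρk.le.trans hσ.2.1, hρk.le.trans hσ.2.2⟩
  have h2 := card_ker_le card_grp ρ hρ
  have e : Nat.card sys.grp = ρ.ker.index := by
    rw [Subgroup.index_ker, MonoidHom.range_eq_top.2 hρ.1, Subgroup.card_top]
  rw [CfsgLib.J2.card_twoJ2, ← Subgroup.card_mul_index ρ.ker, ← e, card_grp]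
  omega

end CfsgLib.HallJankoMult

end
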