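import Cfsg.Agent.IcoLeech.Lattice
import Cfsg.Agent.IcoLeech.Data

/-!
Data (generated): two words in reflections of lines whose commutator is the negation, with the
successive images of three generators of the lattice.
-/

set_option autoImplicit false
set_option maxRecDepth 100000

namespace CfsgLib.HallJankoMult

open Cfsg.IcoLeech Cfsg.IcoLeech.Data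

/-- The first word. -/
def wordA : List ℕ := [40, 1, 63, 40, 1, 173, 40, 63, 40, 63, 1, 173, 40, 173]

/-- The second word. -/
def wordB : List ℕ := [63, 1, 173, 40, 173, 63, 40, 173, 40, 1]

/-- The images under the final segments of the commutator. -/
def traceNeg : List (List V3) :=
  [[(mk 1 0 1 0 (-1) 1 1 (-1), mk 1 0 1 0 (-1) 1 1 (-1), mk 1 0 1 0 (-1) 1 1 (-1)),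
    (mk (-1) 1 1 (-1) (-1) 0 (-1) 0, mk 1 (-1) 0 1 0 1 2 (-1), mk 2 (-1) 1 (-1) (-2) 1 2 (-1)),
    (mk (-1) 1 1 (-1) (-1) 0 (-1) 0, mk (-1) 1 0 (-1) 0 (-1) (-2) 1, mk 2 (-1) 1 (-1) (-2) 1 2 (-1)),
    (mk 2 (-2) 0 0 (-1) 1 2 (-1), mk 1 0 3 (-2) (-3) 1 (-2) 1, mk 0 1 2 (-2) (-2) 1 (-1) 1),
    (mk 1 (-1) 3 (-1) (-4) 2 (-1) 0, mk 0 0 0 0 0 0 (-1) 0, mk 1 0 1 (-1) (-1) 0 0 0),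
    (mk 1 (-1) 3 (-1) (-4) 2 (-1) 0, mk 0 0 0 0 0 0 1 0, mk 1 0 1 (-1) (-1) 0 0 0),
    (mk (-1) 0 2 (-1) (-2) 1 (-1) 1, mk 2 (-1) 1 0 (-2) 1 1 (-1), mk (-3) 2 (-1) 1 3 (-2) (-2) 2),
    (mk (-2) 1 1 0 1 0 (-2) 0, mk 3 (-2) 2 (-2) (-4) 2 1 0, mk (-2) 2 0 0 1 (-1) (-2) 1),
    (mk (-2) 1 1 0 0 0 (-1) 0, mk 3 (-2) 1 (-1) (-3) 1 2 (-1), mk 0 1 1 0 0 0 (-1) 0),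
    (mk 0 (-1) 2 (-1) (-2) 1 0 0, mk 3 (-2) 2 (-1) (-4) 2 2 (-1), mk (-1) 1 (-1) 1 2 (-1) 0 0),
    (mk (-1) 1 (-1) 1 2 (-1) 0 (-1), mk 4 (-2) 0 (-1) (-3) 1 3 (-1), mk 0 0 (-2) 1 1 (-1) 1 (-1)),
    (mk (-1) 1 (-1) 1 2 (-1) 0 (-1), mk (-4) 2 0 1 3 (-1) (-3) 1, mk 0 0 (-2) 1 1 (-1) 1 (-1)),
    (mk (-2) 1 (-1) 1 3 (-1) (-1) 0, mk (-3) 2 0 1 2 (-1) (-2) 0, mk 0 0 1 0 (-1) 1 (-1) 0),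
    (mk (-2) 1 (-1) 0 2 (-1) (-2) 1, mk (-2) 1 (-1) 2 2 (-1) 0 (-1), mk 0 0 0 0 0 0 0 0),
    (mk (-2) 1 (-1) 1 2 (-1) (-1) 0, mk (-2) 1 (-1) 1 2 (-1) (-1) 0, mk (-1) 1 (-4) 3 4 (-3) 1 (-2)),
    (mk 2 (-2) (-3) 2 1 0 3 (-2), mk 1 (-1) 1 0 (-1) 1 1 (-1), mk (-2) 2 (-1) 1 2 (-2) (-2) 0),
    (mk 2 (-2) (-3) 2 1 0 3 (-2), mk (-1) 1 (-1) 0 1 (-1) (-1) 1, mk (-2) 2 (-1) 1 2 (-2) (-2) 0),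
    (mk 1 (-1) (-2) 0 0 0 1 0, mk 0 0 (-2) 2 2 (-1) 1 (-1), mk (-2) 1 1 (-1) (-1) 0 (-2) 2),
    (mk 0 0 1 0 0 1 (-1) 0, mk (-1) 1 (-2) 1 2 (-1) (-1) 0, mk 0 0 1 0 (-2) 1 (-1) 0),
    (mk 2 (-1) (-2) 1 1 0 2 (-2), mk (-3) 2 1 0 1 0 (-4) 2, mk 1 (-1) (-1) 0 0 0 1 0),
    (mk 1 0 (-1) 0 (-1) 0 1 0, mk (-3) 2 0 1 1 (-1) (-3) 1, mk 2 (-1) 1 0 (-1) 1 1 (-1)),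
    (mk 1 (-1) (-3) 2 2 (-1) 2 (-2), mk (-2) 1 2 (-1) (-1) 1 (-3) 2, mk 1 (-1) 2 (-1) (-2) 2 0 (-1)),
    (mk (-1) 1 (-2) 1 2 (-1) 0 0, mk 0 (-1) 1 0 (-1) 1 (-1) 0, mk 0 0 1 0 (-2) 1 0 0),
    (mk 0 (-1) 0 0 (-1) 2 0 0, mk (-1) 0 (-1) 1 1 0 0 0, mk (-1) 0 (-1) 1 1 0 0 0),
    (mk 0 (-1) 0 0 (-1) 2 0 0, mk 1 0 1 (-1) (-1) 0 0 0, mk (-1) 0 (-1) 1 1 0 0 0),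
    (mk 2 (-1) 0 0 (-1) 1 1 (-1), mk (-1) 0 1 (-1) (-1) 1 (-1) 1, mk (-4) 2 2 (-2) 0 (-1) (-4) 3),
    (mk (-2) 1 2 (-1) 0 1 (-2) 2, mk (-1) 1 0 0 0 0 (-2) 1, mk (-1) 0 3 (-2) (-2) 1 (-2) 2),
    (mk (-2) 1 1 0 0 1 (-2) 1, mk (-1) 1 1 (-1) 0 0 (-2) 2, mk 3 (-2) 0 (-1) (-2) 1 2 (-1)),
    (mk (-2) 1 1 0 0 1 (-2) 1, mk 1 (-1) (-1) 1 0 0 2 (-2), mk 3 (-2) 0 (-1) (-2) 1 2 (-1)),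
    (mk 0 0 1 (-1) 0 0 (-1) 1, mk 0 (-1) 2 (-1) (-2) 1 (-1) 0, mk 0 0 (-2) 1 1 (-1) 0 0),
    (mk (-2) 0 (-1) 1 2 0 (-1) 1, mk 1 (-1) 0 0 0 0 1 (-1), mk (-1) 0 0 0 1 0 (-2) 1),
    (mk (-4) 2 1 (-1) 1 0 (-4) 3, mk (-1) 0 (-1) 0 1 (-1) 0 0, mk (-1) 0 (-1) 1 2 (-1) (-1) 0),
    (mk (-1) 0 (-1) 0 2 (-1) 0 1, mk (-1) 0 3 (-2) (-2) 1 (-2) 1, mk (-3) 1 (-1) 1 2 (-1) (-2) 1),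
    (mk 1 (-1) 1 (-1) (-1) 1 0 0, mk (-3) 1 1 (-1) 1 (-1) (-2) 2, mk 0 0 (-1) 0 0 0 1 (-1)),
    (mk 1 (-1) 1 (-1) (-1) 1 0 0, mk 3 (-1) (-1) 1 (-1) 1 2 (-2), mk 0 0 (-1) 0 0 0 1 (-1)),
    (mk 1 0 (-1) 0 (-1) 0 2 (-1), mk 1 0 (-2) 2 2 (-1) 1 (-2), mk (-1) 1 1 (-1) (-1) 0 (-2) 1),
    (mk 0 0 2 (-2) (-2) 1 (-1) 1, mk (-1) 1 0 1 1 0 (-2) 0, mk (-4) 3 (-1) 0 2 (-2) (-3) 2),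
    (mk 0 0 2 (-2) (-2) 1 (-1) 1, mk 1 (-1) 0 (-1) (-1) 0 2 0, mk (-4) 3 (-1) 0 2 (-2) (-3) 2),
    (mk (-4) 2 3 (-1) 0 0 (-4) 3, mk 2 (-1) (-1) 0 0 0 2 (-1), mk (-2) 1 1 0 0 0 (-2) 1),
    (mk (-4) 2 3 (-1) 0 0 (-4) 3, mk (-2) 1 1 0 0 0 (-2) 1, mk (-2) 1 1 0 0 0 (-2) 1),
    (mk (-2) 1 0 0 1 0 (-2) 1, mk (-1) 0 1 (-1) (-1) 0 0 1, mk (-4) 3 1 (-1) 1 (-1) (-4) 2),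
    (mk (-1) 0 (-1) 0 0 0 0 1, mk (-2) 1 2 (-1) 0 0 (-2) 1, mk (-2) 0 (-1) 1 2 (-1) 0 0),
    (mk (-3) 2 1 (-1) 1 0 (-3) 2, mk (-2) 1 2 (-2) (-1) 0 (-3) 2, mk 1 (-1) (-1) 1 0 0 2 (-2)),
    (mk 1 (-2) (-1) 1 0 1 2 (-1), mk 1 (-1) 4 (-2) (-3) 2 (-1) 0, mk 1 (-1) 2 (-1) (-2) 2 0 0),
    (mk 1 (-1) 1 0 (-1) 1 1 (-1), mk 1 (-2) 2 (-1) (-2) 2 0 0, mk (-3) 2 2 (-2) (-1) 0 (-3) 2),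
    (mk (-1) 0 4 (-2) (-3) 3 (-2) 2, mk 1 (-1) (-1) 1 0 0 1 (-1), mk (-1) 1 1 (-1) 0 0 (-1) 1),
    (mk (-1) 0 1 0 (-1) 1 (-1) 1, mk 1 (-1) 2 (-1) (-2) 2 0 0, mk 1 (-1) 0 (-1) 0 0 0 0),
    (mk (-1) 0 1 0 (-1) 1 (-1) 1, mk (-1) 1 (-2) 1 2 (-2) 0 0, mk 1 (-1) 0 (-1) 0 0 0 0)],
   [(mk 2 (-2) 1 0 (-1) 1 1 (-1), mk 2 (-2) 1 0 (-1) 1 1 (-1), mk 0 0 0 0 0 0 0 0),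
    (mk 1 (-1) 2 (-1) (-2) 2 0 0, mk 1 (-1) (-1) 1 1 (-1) 1 (-1), mk 1 0 0 0 0 0 0 0),
    (mk 1 (-1) 2 (-1) (-2) 2 0 0, mk (-1) 1 1 (-1) (-1) 1 (-1) 1, mk 1 0 0 0 0 0 0 0),
    (mk (-1) 1 (-2) 1 2 (-2) 0 0, mk 0 0 (-1) 0 0 0 0 0, mk 2 (-1) 0 1 (-1) 1 1 (-1)),
    (mk 1 (-1) (-3) 1 1 (-1) 2 (-1), mk 0 0 (-1) 0 0 0 1 0, mk 0 0 (-1) 1 1 0 0 0),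
    (mk 1 (-1) (-3) 1 1 (-1) 2 (-1), mk 0 0 1 0 0 0 (-1) 0, mk 0 0 (-1) 1 1 0 0 0),
    (mk 2 (-1) 0 0 (-1) 0 1 (-1), mk (-1) 0 (-2) 1 2 (-1) 0 0, mk (-2) 2 2 (-1) (-1) 0 (-3) 1),
    (mk 0 (-1) 1 (-1) (-1) 1 0 1, mk (-1) 1 (-3) 2 3 (-2) 0 0, mk (-1) 1 2 (-1) (-1) 1 (-2) 1),
    (mk 2 (-1) 1 (-1) (-2) 1 1 (-1), mk (-1) 1 (-3) 1 3 (-2) 0 0, mk (-1) 0 2 (-1) (-1) 1 (-2) 1),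
    (mk 2 (-1) 0 (-1) (-1) 0 1 0, mk 1 0 (-2) 1 1 (-1) 1 (-1), mk (-1) 0 2 (-1) (-1) 1 (-1) 1),
    (mk 1 (-1) 1 (-1) (-1) 1 1 0, mk 0 1 (-3) 2 3 (-2) 1 (-1), mk 1 (-1) 1 (-1) (-1) 1 1 0),
    (mk 1 (-1) 1 (-1) (-1) 1 1 0, mk 0 (-1) 3 (-2) (-3) 2 (-1) 1, mk 1 (-1) 1 (-1) (-1) 1 1 0),
    (mk (-1) 0 2 (-1) (-1) 1 (-1) 1, mk 2 (-2) 2 (-2) (-3) 2 1 0, mk 1 (-1) 0 0 (-1) 1 1 (-1)),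
    (mk 0 0 1 (-1) (-2) 1 0 1, mk 2 (-2) 1 (-1) (-2) 1 2 (-1), mk 0 0 0 0 0 0 0 0),
    (mk 1 (-1) 1 (-1) (-2) 1 1 0, mk 1 (-1) 1 (-1) (-2) 1 1 0, mk (-2) 1 1 (-1) 1 0 (-2) 1),
    (mk (-2) 1 (-2) 1 3 (-2) 0 0, mk 1 (-1) (-1) 0 0 0 1 0, mk (-1) 0 (-1) 0 1 0 0 0),
    (mk (-2) 1 (-2) 1 3 (-2) 0 0, mk (-1) 1 1 0 0 0 (-1) 0, mk (-1) 0 (-1) 0 1 0 0 0),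
    (mk (-1) 1 (-1) 1 2 (-1) 0 0, mk (-2) 1 0 0 1 (-1) (-1) 0, mk 1 0 0 0 (-1) 0 1 (-1)),
    (mk (-2) 0 0 0 1 0 (-1) 1, mk (-2) 1 (-1) 1 2 (-1) 0 0, mk 1 (-1) (-1) 0 0 0 2 (-1)),
    (mk (-3) 1 (-1) 1 3 (-1) (-1) 1, mk (-1) 0 0 0 0 0 0 0, mk (-1) 1 (-2) 1 2 (-2) 0 0),
    (mk 0 0 (-2) 2 2 (-1) 1 (-1), mk 1 (-1) 1 (-1) (-2) 1 1 (-1), mk (-2) 1 0 0 1 (-1) (-2) 1),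
    (mk (-3) 1 1 (-1) 1 0 (-2) 2, mk 0 0 0 0 (-1) 0 0 0, mk 1 (-1) (-1) 0 0 0 1 0),
    (mk (-1) 0 2 (-1) (-1) 1 (-1) 1, mk (-2) 1 (-1) 0 1 (-1) (-1) 1, mk 3 (-2) (-1) 0 (-1) 0 3 (-2)),
    (mk 1 (-1) (-3) 2 2 (-1) 3 (-1), mk 0 0 1 (-1) (-1) 0 0 0, mk 0 0 1 (-1) (-1) 0 0 0),
    (mk 1 (-1) (-3) 2 2 (-1) 3 (-1), mk 0 0 (-1) 1 1 0 0 0, mk 0 0 1 (-1) (-1) 0 0 0),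
    (mk (-1) 0 (-3) 2 3 (-1) 1 0, mk 2 (-1) (-1) 1 0 0 2 (-1), mk 1 0 1 (-1) (-2) 1 0 0),
    (mk 2 (-1) 1 0 (-2) 1 1 (-1), mk (-1) 0 (-1) 1 1 0 0 0, mk 1 0 (-2) 1 0 (-1) 1 (-1)),
    (mk 2 (-2) 0 0 (-1) 1 2 (-1), mk (-1) 1 0 1 0 0 (-1) 0, mk 0 0 (-1) 1 1 0 0 0),
    (mk 2 (-2) 0 0 (-1) 1 2 (-1), mk 1 (-1) 0 (-1) 0 0 1 0, mk 0 0 (-1) 1 1 0 0 0),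
    (mk (-2) 1 2 (-1) (-1) 1 (-3) 2, mk 0 0 (-2) 0 1 (-1) 1 0, mk 0 0 (-1) 1 1 0 1 (-1)),
    (mk 0 0 (-1) 0 0 (-1) 1 0, mk (-1) 0 1 (-1) 0 0 (-1) 1, mk (-2) 1 0 0 0 0 (-1) 1),
    (mk 0 0 1 0 (-1) 1 0 0, mk (-1) 1 1 (-1) 0 0 (-1) 1, mk (-2) 1 0 (-1) 0 0 (-1) 1),
    (mk (-2) 2 2 (-1) (-1) 0 (-3) 2, mk 0 0 0 0 0 0 0 0, mk 0 0 0 (-1) (-1) 0 1 0),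
    (mk (-2) 1 (-1) 1 2 (-1) (-1) 1, mk 0 1 3 (-2) (-3) 1 (-2) 1, mk 0 0 0 0 1 0 0 0),
    (mk (-2) 1 (-1) 1 2 (-1) (-1) 1, mk 0 (-1) (-3) 2 3 (-1) 2 (-1), mk 0 0 0 0 1 0 0 0),
    (mk 2 (-1) 0 0 0 0 2 (-1), mk (-2) 0 0 0 1 0 (-1) 1, mk (-1) 1 (-2) 1 2 (-1) 0 0),
    (mk 1 0 (-1) 1 0 0 1 (-1), mk 0 (-1) (-2) 1 1 0 2 (-1), mk 0 0 1 (-1) (-1) 1 0 0),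
    (mk 1 0 (-1) 1 0 0 1 (-1), mk 0 1 2 (-1) (-1) 0 (-2) 1, mk 0 0 1 (-1) (-1) 1 0 0),
    (mk 1 0 2 (-1) (-3) 1 (-1) 0, mk (-1) 1 1 0 0 0 (-2) 1, mk 1 (-1) (-1) 0 0 0 2 (-1)),
    (mk 1 0 2 (-1) (-3) 1 (-1) 0, mk 1 (-1) (-1) 0 0 0 2 (-1), mk 1 (-1) (-1) 0 0 0 2 (-1)),
    (mk 0 0 0 0 0 0 1 0, mk 1 0 1 (-1) (-1) 0 0 0, mk 1 (-1) 1 (-1) (-2) 2 1 0),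
    (mk 1 0 (-1) 1 1 (-1) 2 (-1), mk 0 0 2 (-2) (-2) 1 (-1) 1, mk 0 0 2 (-2) (-2) 1 (-1) 1),
    (mk 0 0 2 (-1) (-2) 1 (-1) 1, mk 0 0 (-1) 0 0 0 1 0, mk 1 (-1) 0 (-1) 0 0 1 0),
    (mk 0 0 (-2) 1 2 (-2) 1 0, mk 1 (-1) (-1) 0 0 0 1 0, mk 1 (-1) (-1) 0 0 0 1 0),
    (mk 1 (-1) 0 0 0 0 1 0, mk 0 0 (-3) 1 2 (-2) 1 0, mk 2 (-1) 0 0 (-1) 1 2 (-1)),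
    (mk 3 (-2) (-1) 1 (-1) 0 3 (-2), mk (-1) 0 (-3) 1 3 (-2) 1 0, mk 0 0 0 0 0 0 0 0),
    (mk 1 (-1) (-2) 1 1 (-1) 2 (-1), mk 1 (-1) (-2) 1 1 (-1) 2 (-1), mk (-2) 1 0 0 1 0 (-2) 2),
    (mk 1 (-1) (-2) 1 1 (-1) 2 (-1), mk (-1) 1 2 (-1) (-1) 1 (-2) 1, mk (-2) 1 0 0 1 0 (-2) 2)],
   [(mk 0 0 0 0 0 0 0 0, mk (-2) 2 (-1) 0 1 (-1) (-1) 1, mk (-2) 2 (-1) 0 1 (-1) (-1) 1),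
    (mk (-3) 2 (-1) 1 2 (-2) (-2) 1, mk (-1) 1 (-2) 1 2 (-1) 0 0, mk (-1) 1 1 (-1) (-1) 0 (-1) 1),
    (mk (-3) 2 (-1) 1 2 (-2) (-2) 1, mk 1 (-1) 2 (-1) (-2) 1 0 0, mk (-1) 1 1 (-1) (-1) 0 (-1) 1),
    (mk (-1) 1 1 0 0 0 (-1) 0, mk 0 0 3 (-2) (-2) 1 (-1) 1, mk (-1) 1 0 (-1) 0 (-1) (-1) 1),
    (mk (-2) 1 3 (-1) (-1) 1 (-3) 2, mk 1 0 2 (-1) (-2) 1 0 0, mk 0 0 (-1) 0 1 (-1) 1 0),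
    (mk (-2) 1 3 (-1) (-1) 1 (-3) 2, mk (-1) 0 (-2) 1 2 (-1) 0 0, mk 0 0 (-1) 0 1 (-1) 1 0),
    (mk (-3) 1 1 0 1 0 (-3) 2, mk 0 0 0 0 0 0 0 0, mk 1 (-1) (-1) 0 1 0 1 0),
    (mk 1 0 (-1) 1 1 (-1) 1 (-1), mk (-1) 0 3 (-2) (-2) 1 (-2) 1, mk (-1) 1 (-1) 0 1 (-1) (-1) 1),
    (mk (-3) 2 (-1) 1 2 (-1) (-2) 1, mk (-1) 0 0 0 0 0 0 0, mk 1 0 0 (-1) (-1) 0 1 0),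
    (mk (-1) 0 0 1 1 0 0 0, mk (-2) 1 2 (-1) (-1) 1 (-2) 1, mk 0 0 (-1) 0 0 0 1 0),
    (mk 1 0 (-2) 1 1 (-1) 2 (-1), mk (-1) 0 2 (-2) (-2) 1 (-1) 1, mk 0 0 0 0 (-1) 0 0 0),
    (mk 1 0 (-2) 1 1 (-1) 2 (-1), mk 1 0 (-2) 2 2 (-1) 1 (-1), mk 0 0 0 0 (-1) 0 0 0),
    (mk 2 (-1) (-3) 2 2 (-1) 3 (-2), mk 0 1 (-1) 1 1 (-1) 0 0, mk 1 0 2 (-1) (-2) 1 (-1) 0),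
    (mk 2 (-1) 0 0 (-1) 0 1 (-1), mk (-1) 1 (-2) 2 2 (-1) 0 0, mk 2 (-1) 0 0 (-1) 0 1 (-1)),
    (mk 0 0 0 0 0 0 0 0, mk 1 0 (-2) 2 1 (-1) 1 (-1), mk 1 0 (-2) 2 1 (-1) 1 (-1)),
    (mk 2 (-1) 2 (-1) (-3) 2 0 (-1), mk 1 0 (-1) 1 0 0 1 (-1), mk 0 0 (-1) 1 1 (-1) 0 0),
    (mk 2 (-1) 2 (-1) (-3) 2 0 (-1), mk (-1) 0 1 (-1) 0 0 (-1) 1, mk 0 0 (-1) 1 1 (-1) 0 0),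
    (mk 1 (-1) 3 (-2) (-3) 2 (-1) 0, mk 0 0 0 0 0 0 0 0, mk (-3) 1 1 0 1 0 (-3) 2),
    (mk (-1) 1 1 (-1) 0 0 (-2) 1, mk 2 (-1) 0 0 (-1) 0 1 (-1), mk (-2) 1 3 (-1) (-1) 1 (-3) 2),
    (mk 1 0 0 0 (-1) 0 0 (-1), mk 0 0 1 (-1) 0 0 (-1) 1, mk 1 (-1) 0 0 0 0 1 (-1)),
    (mk (-1) 0 0 0 0 0 (-1) 1, mk 0 0 1 0 0 0 (-1) 1, mk 1 0 0 0 0 0 1 (-1)),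
    (mk 2 (-1) 1 0 (-2) 1 1 (-1), mk (-2) 1 2 (-1) 0 0 (-3) 2, mk 0 1 (-1) 1 1 (-1) 0 (-1)),
    (mk 0 0 1 (-1) (-1) 0 (-1) 1, mk 0 0 2 0 (-1) 1 (-1) 0, mk (-2) 1 2 (-1) (-1) 1 (-3) 2),
    (mk (-1) 1 2 (-1) (-1) 1 (-3) 1, mk 0 0 0 0 0 0 0 0, mk (-1) 1 2 (-1) (-1) 1 (-3) 1),
    (mk (-1) 1 2 (-1) (-1) 1 (-3) 1, mk 0 0 0 0 0 0 0 0, mk (-1) 1 2 (-1) (-1) 1 (-3) 1),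
    (mk 1 0 1 (-1) (-2) 1 0 0, mk (-2) 1 1 0 1 0 (-3) 1, mk (-1) 0 (-1) 1 2 (-1) 0 0),
    (mk 0 0 (-1) 0 1 0 0 0, mk 0 0 2 (-1) (-1) 1 (-2) 1, mk (-1) 0 0 0 1 0 0 0),
    (mk (-1) 1 0 0 1 0 (-2) 1, mk 1 (-1) 1 (-1) (-1) 1 0 0, mk 0 0 2 (-1) (-2) 1 (-1) 0),
    (mk (-1) 1 0 0 1 0 (-2) 1, mk (-1) 1 (-1) 1 1 (-1) 0 0, mk 0 0 2 (-1) (-2) 1 (-1) 0),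
    (mk 1 (-1) 0 0 0 0 1 (-1), mk (-2) 1 0 1 2 (-1) (-1) 0, mk 1 (-1) 1 0 (-1) 1 0 0),
    (mk 0 0 0 0 1 0 (-1) 0, mk 0 0 (-1) 1 1 (-1) 1 (-1), mk 2 (-1) 1 0 (-1) 1 1 (-1)),
    (mk 0 0 0 0 1 0 (-1) 0, mk 0 0 (-1) 1 1 (-1) 1 (-1), mk 2 (-1) 1 0 (-1) 1 1 (-1)),
    (mk 1 (-1) 0 0 0 0 1 (-1), mk (-2) 1 0 1 2 (-1) (-1) 0, mk 1 (-1) 1 0 (-1) 1 0 0),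
    (mk 0 0 1 0 0 0 0 (-1), mk (-1) 0 (-1) 1 2 (-1) 0 0, mk (-1) 1 (-1) 1 1 (-1) (-1) 0),
    (mk 0 0 1 0 0 0 0 (-1), mk 1 0 1 (-1) (-2) 1 0 0, mk (-1) 1 (-1) 1 1 (-1) (-1) 0),
    (mk (-2) 1 (-1) 0 1 (-1) (-1) 1, mk 3 (-1) (-1) 1 (-1) 0 3 (-2), mk (-1) 1 0 0 1 (-1) (-1) 1),
    (mk (-1) 1 0 0 1 (-1) (-1) 0, mk 2 0 0 0 (-1) 0 1 (-1), mk (-2) 1 (-2) 1 3 (-2) (-1) 1),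
    (mk (-1) 1 0 0 1 (-1) (-1) 0, mk (-2) 0 0 0 1 0 (-1) 1, mk (-2) 1 (-2) 1 3 (-2) (-1) 1),
    (mk (-2) 1 (-1) 1 3 (-1) (-1) 1, mk 0 0 0 0 0 0 0 0, mk (-2) 1 (-1) 1 3 (-1) (-1) 1),
    (mk (-2) 1 (-1) 1 3 (-1) (-1) 1, mk 0 0 0 0 0 0 0 0, mk (-2) 1 (-1) 1 3 (-1) (-1) 1),
    (mk (-1) 1 0 0 1 (-1) (-1) 0, mk (-2) 0 0 0 1 0 (-1) 1, mk (-2) 1 (-2) 1 3 (-2) (-1) 1),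
    (mk (-1) 0 2 (-1) (-1) 1 (-2) 1, mk (-2) 1 (-2) 1 3 (-2) 0 0, mk 1 (-1) 0 1 0 1 1 (-1)),
    (mk 0 0 (-1) 0 1 (-1) 0 0, mk (-1) 0 0 0 1 (-1) 0 0, mk 0 0 1 0 (-1) 1 0 0),
    (mk 0 0 1 0 0 1 (-1) 0, mk (-1) 1 0 0 1 (-1) 0 0, mk 0 0 1 (-1) (-1) 1 0 0),
    (mk (-1) 1 (-1) 1 2 (-1) 0 0, mk 0 0 2 (-1) (-1) 1 (-1) 0, mk (-3) 1 (-2) 1 3 (-2) (-1) 1),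
    (mk (-3) 2 1 (-1) 1 0 (-3) 2, mk 0 0 0 0 0 0 0 0, mk (-1) 0 (-3) 1 3 (-2) 1 0),
    (mk (-2) 1 2 (-1) 0 1 (-3) 2, mk (-1) 1 (-1) 0 1 (-1) 0 0, mk 1 (-1) 0 0 0 0 1 (-1)),
    (mk (-2) 1 2 (-1) 0 1 (-3) 2, mk 1 (-1) 1 0 (-1) 1 0 0, mk 1 (-1) 0 0 0 0 1 (-1))]]

end CfsgLib.HallJankoMult
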